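/-
Derived length of linear `p`-groups (S4010, S4015, S4417).
-/
import Cfsg.Agent.Grp.PGroupCyc
import Cfsg.Agent.Grp.MinNormal
import Cfsg.Agent.Perm.Module
import Cfsg.Agent.Known.WrRep

open Subgroup Cfsg CL.Grp Module
open scoped Pointwise commutatorElement

namespace CL.Sw

universe u v
variable {F : Type*} [Field F] {V : Type*} [AddCommGroup V] [Module F V] {P : Type*} [Group P] {p : ℕ}

/-- the fixed space of one element -/
def fixV (ρ : Representation F P V) (x : P) : Submodule F V := LinearMap.ker (ρ x - 1)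

theorem mem_fixV {ρ : Representation F P V} {x : P} {v : V} : v ∈ fixV ρ x ↔ ρ x v = v := by
  simp [fixV, sub_eq_zero]

theorem rep_mul (ρ : Representation F P V) (a b : P) (v : V) : ρ (a * b) v = ρ a (ρ b v) := by
  rw [map_mul]; rfl

theorem fixV_inv {ρ : Representation F P V} {x g : P} (h : Commute g x) : fixV ρ x ≤ (fixV ρ x).comap (ρ g) :=
  fun v hv => by
    rw [Submodule.mem_comap, mem_fixV, ← rep_mul, ← h.eq, rep_mul, mem_fixV.1 hv]

theorem rep_pow_fix {ρ : Representation F P V} {x : P} {v : V} (h : ρ x v = v) (l : ℕ) : ρ (x ^ l) v = v := by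
  induction l with
  | zero => simp
  | succ l ih => rw [pow_succ, rep_mul, h, ih]

theorem sum_pow_mem_fixV (ρ : Representation F P V) {x : P} (hx : x ^ p = 1) (v : V) :
    ∑ l ∈ Finset.range p, ρ (x ^ l) v ∈ fixV ρ x := by
  rw [mem_fixV, map_sum]
  simp only [← rep_mul, ← pow_succ']
  have h1 := Finset.sum_range_succ (fun l => ρ (x ^ l) v) p
  have h2 := Finset.sum_range_succ' (fun l => ρ (x ^ l) v) p
  rw [h1, hx, pow_zero] at h2
  exact (add_right_cancel h2).symm

theorem end_eq_one_of_sq {T : End F V} {m : ℕ} (hm : (m : F) ≠ 0) (h : (T - 1) * (T - 1) = 0)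
    (hT : T ^ m = 1) : T = 1 := by
  have key : ∀ l : ℕ, T ^ l = 1 + (l : F) • (T - 1) := by
    intro l
    induction l with
    | zero => simp
    | succ l ih =>
      have e : T = 1 + (T - 1) := by abel
      rw [pow_succ, ih]
      nth_rewrite 2 [e]
      rw [add_mul, mul_add, mul_add, smul_mul_assoc, smul_mul_assoc, h, Nat.cast_succ, add_smul]
      simp only [one_mul, mul_one, smul_zero, add_zero, one_smul]
      abel
  have := key m
  rw [hT, left_eq_add, smul_eq_zero] at this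
  exact sub_eq_zero.1 (this.resolve_left hm)

section irr
variable {ρ : Representation F P V} [hp : Fact p.Prime]

omit hp in
theorem sum_pow_eq_zero {c : P} (hc : fixV ρ c = ⊥) (h : c ^ p = 1) (v : V) :
    ∑ l ∈ Finset.range p, ρ (c ^ l) v = 0 := by
  have := sum_pow_mem_fixV ρ h v
  rwa [hc, Submodule.mem_bot] at this

theorem pow_ne_one_of_lt {c : P} (hc : c ≠ 1) (h : c ^ p = 1) {l : ℕ} (h0 : l ≠ 0) (hl : l < p) : c ^ l ≠ 1 :=
  pow_ne_one_of_lt_orderOf h0 (by rwa [orderOf_eq_prime h hc])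

/-- `V` is the sum of the fixed spaces of the elements `z ^ i * b` -/
theorem smul_eq_sum {z b : P} (hz : ∀ c ∈ zpowers z, c ≠ 1 → fixV ρ c = ⊥) (hz1 : z ≠ 1) (hzp : z ^ p = 1)
    (hc : Commute z b) (v : V) :
    (p : F) • v = ∑ i ∈ Finset.range p, ∑ l ∈ Finset.range p, ρ ((z ^ i * b) ^ l) v := by
  rw [Finset.sum_comm]
  have e : ∀ l ∈ Finset.range p, ∑ i ∈ Finset.range p, ρ ((z ^ i * b) ^ l) v =
      if l = 0 then (p : F) • v else 0 := by
    intro l hl
    split_ifs with h
    · subst h; simp [Nat.cast_smul_eq_nsmul]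
    · have : ∀ i, ρ ((z ^ i * b) ^ l) v = ρ ((z ^ l) ^ i) (ρ (b ^ l) v) := fun i => by
        rw [(hc.pow_left i).mul_pow, rep_mul, ← pow_mul, ← pow_mul, mul_comm]
      simp only [this]
      exact sum_pow_eq_zero (hz _ (pow_mem (mem_zpowers z) l)
        (pow_ne_one_of_lt hz1 hzp h (Finset.mem_range.1 hl))) (by rw [← pow_mul, mul_comm, pow_mul, hzp, one_pow]) _
  rw [Finset.sum_congr rfl e, Finset.sum_ite_eq']
  simp [hp.out.pos]

theorem mul_finrank_fixV_le [FiniteDimensional F V] (hpF : (p : F) ≠ 0) {c b t : P} (hc : c ∈ center P)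
    (hz : ∀ d ∈ zpowers c, d ≠ 1 → fixV ρ d = ⊥) (hc1 : c ≠ 1) (hcp : c ^ p = 1)
    (ht : t * b * t⁻¹ = c * b) : p * finrank F (fixV ρ b) ≤ finrank F V := by
  have hcc : ∀ g, Commute c g := fun g => (mem_center_iff.1 hc g).symm
  have hti : ∀ i : ℕ, t ^ i * b = c ^ i * b * t ^ i := by
    intro i
    induction i with
    | zero => simp
    | succ i ih =>
      have h1 : t * b = c * b * t := by rw [← ht]; group
      rw [pow_succ', mul_assoc, ih, ← mul_assoc, ← mul_assoc, ← ((hcc t).pow_left i).eq, mul_assoc (c ^ i), h1,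
        pow_succ c]
      group
  let Φ : (Fin p → fixV ρ b) →ₗ[F] V := ∑ i : Fin p, (ρ (t ^ (i : ℕ))) ∘ₗ (fixV ρ b).subtype ∘ₗ LinearMap.proj i
  have hΦ : ∀ w, Φ w = ∑ i : Fin p, ρ (t ^ (i : ℕ)) (w i) := fun w => by simp [Φ]
  have hinj : Function.Injective Φ := by
    rw [← LinearMap.ker_eq_bot, eq_bot_iff]
    intro w hw
    rw [LinearMap.mem_ker, hΦ] at hw
    rw [Submodule.mem_bot]
    funext j
    have hfix : ∀ i : Fin p, ρ (c ^ (i : ℕ) * b) (ρ (t ^ (i : ℕ)) (w i)) = ρ (t ^ (i : ℕ)) (w i) := fun i => by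
      rw [← rep_mul, ← hti, rep_mul, mem_fixV.1 (w i).2]
    have h1 : ∑ l ∈ Finset.range p, ρ ((c ^ (j : ℕ) * b) ^ l) (∑ i : Fin p, ρ (t ^ (i : ℕ)) (w i)) = 0 := by
      rw [hw]; simp
    simp only [map_sum] at h1
    rw [Finset.sum_comm, Finset.sum_eq_single j] at h1
    · simp only [rep_pow_fix (hfix j), Finset.sum_const, Finset.card_range] at h1
      rw [← Nat.cast_smul_eq_nsmul F, smul_eq_zero] at h1
      have h2 := congrArg (ρ (t ^ (j : ℕ))⁻¹) (h1.resolve_left hpF)
      rw [← rep_mul, inv_mul_cancel, map_one, map_zero] at h2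
      exact Subtype.ext h2
    · intro i _ hij
      have hd : Commute (c ^ (j : ℕ) * (c ^ (i : ℕ))⁻¹) (c ^ (i : ℕ) * b) :=
        (((hcc _).pow_left _).mul_left ((hcc _).pow_left _).inv_left)
      have : ∀ l, ρ ((c ^ (j : ℕ) * b) ^ l) (ρ (t ^ (i : ℕ)) (w i)) =
          ρ ((c ^ (j : ℕ) * (c ^ (i : ℕ))⁻¹) ^ l) (ρ (t ^ (i : ℕ)) (w i)) := fun l => by
        rw [show c ^ (j : ℕ) * b = (c ^ (j : ℕ) * (c ^ (i : ℕ))⁻¹) * (c ^ (i : ℕ) * b) by group, hd.mul_pow,
          rep_mul, rep_pow_fix (hfix i)]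
      simp only [this]
      refine sum_pow_eq_zero (hz _ (mul_mem (pow_mem (mem_zpowers c) _) (inv_mem (pow_mem (mem_zpowers c) _))) ?_)
        ?_ _
      · rw [Ne, mul_inv_eq_one]
        intro h
        have ho := orderOf_eq_prime hcp hc1
        exact hij (Fin.ext (pow_injOn_Iio_orderOf (by simp [ho]) (by simp [ho]) h.symm))
      · rw [((hcc _).pow_left _).mul_pow, inv_pow, ← pow_mul, ← pow_mul, mul_comm _ p, mul_comm _ p, pow_mul,
          pow_mul, hcp]
        simp
    · simp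
  have := LinearMap.finrank_le_finrank_of_injective hinj
  rwa [Module.finrank_pi_fintype, Finset.sum_const, Finset.card_univ, Fintype.card_fin, smul_eq_mul] at this

end irr

theorem derivedSeries_succ_eq_bot_of_comm (h : IsMulCommutative P) (k : ℕ) : derivedSeries P (k + 1) = ⊥ := by
  rw [derivedSeries_succ, commutator_eq_bot_iff_le_centralizer]
  intro x _ y _
  exact h.1.1 _ _

/-- the main bound in coprime characteristic -/
theorem der_trivial [hp : Fact p.Prime] (hpF : (p : F) ≠ 0) {e : ℕ} (he2 : p = 2 → e ≤ 1)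
    (he : ∀ (W : Type v) [AddCommGroup W] [Module F W] [FiniteDimensional F W], finrank F W < e →
      ∀ (T : End F W) (j : ℕ), T ^ p ^ j = 1 → T = 1) (n : ℕ) :
    ∀ (V : Type v) [AddCommGroup V] [Module F V] [FiniteDimensional F V], finrank F V = n →
      ∀ (P : Type u) [Group P] [Finite P], IsPGroup p P → ∀ (ρ : Representation F P V) (k : ℕ),
        n < e * p ^ k → ∀ g ∈ derivedSeries P k, ρ g = 1 := by
  induction n using Nat.strong_induction_on with
  | _ n ih =>
  intro V _ _ _ hn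
  suffices H : ∀ (P : Type u) [Group P] [Finite P], IsPGroup p P → ∀ (ρ : Representation F P V),
      (∀ g, ρ g = 1 → g = 1) → ∀ (k : ℕ), n < e * p ^ k → ∀ g ∈ derivedSeries P k, ρ g = 1 by
    intro P _ _ hP ρ k hk g hg
    refine H (P ⧸ MonoidHom.ker ρ) (hP.to_quotient _) (QuotientGroup.lift _ ρ le_rfl) ?_ k hk (g : P ⧸ _)
      (map_derivedSeries_le_derivedSeries (QuotientGroup.mk' _) k ⟨g, hg, rfl⟩)
    intro x hx
    obtain ⟨y, rfl⟩ := QuotientGroup.mk_surjective x
    exact (QuotientGroup.eq_one_iff y).2 hx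
  intro P _ _ hP ρ hρ k hk g hg
  obtain ⟨j, hj⟩ := hP g
  have hgj : ρ g ^ p ^ j = 1 := by rw [← map_pow, hj, map_one]
  rcases k with _ | k
  · exact he V (by simpa [hn] using hk) _ j hgj
  by_cases hirr : ∃ W : Submodule F V, W ≠ ⊥ ∧ W ≠ ⊤ ∧ ∀ x, W ≤ W.comap (ρ x)
  · obtain ⟨W, hW0, hW1, hW⟩ := hirr
    have h1 : finrank F W < n := hn ▸ Submodule.finrank_lt hW1
    have h2 : finrank F (V ⧸ W) < n := by
      have := W.finrank_quotient_add_finrank
      have h3 : finrank F W ≠ 0 := fun h => hW0 (Submodule.finrank_eq_zero.1 h)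
      omega
    have e1 := ih _ h1 W rfl P hP (ρ.subrepresentation W hW) _ (h1.trans hk) g hg
    have e2 := ih _ h2 (V ⧸ W) rfl P hP (ρ.quotient W hW) _ (h2.trans hk) g hg
    refine end_eq_one_of_sq (m := p ^ j) (by rw [Nat.cast_pow]; exact pow_ne_zero _ hpF) ?_ hgj
    ext v
    have h3 : ρ g v - v ∈ W := by
      rw [← Submodule.Quotient.eq]
      exact LinearMap.congr_fun e2 (Submodule.Quotient.mk v)
    have h4 := congrArg Subtype.val (LinearMap.congr_fun e1 ⟨_, h3⟩)
    change ρ g (ρ g v - v) = ρ g v - v at h4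
    change ρ g (ρ g v - v) - (ρ g v - v) = 0
    rw [h4, sub_self]
  push Not at hirr
  rcases subsingleton_or_nontrivial V with hV | hV
  · exact Subsingleton.elim _ _
  have hn0 : 0 < n := hn ▸ Module.finrank_pos
  have hcen : ∀ c ∈ center P, c ≠ 1 → fixV ρ c = ⊥ := by
    intro c hc hc1
    by_contra h0
    obtain ⟨x, hx⟩ := hirr _ h0 (fun h => hc1 (hρ c (by
      ext v; exact mem_fixV.1 (h ▸ Submodule.mem_top : v ∈ fixV ρ c))))
    exact hx (fixV_inv (mem_center_iff.1 hc x))
  by_cases hE : ∀ E : Subgroup P, E.Normal → IsElementaryAbelian p E → Nat.card E ≠ p ^ 2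
  · rcases isCyclic_or_dqsGen_of_forall_normal hP hE with hc | ⟨h2, m, a, b, h⟩
    · rw [derivedSeries_succ_eq_bot_of_comm inferInstance, mem_bot] at hg
      rw [hg, map_one]
    · rcases k with _ | k
      · exfalso
        have h1 : finrank F V = 1 := by
          have := he2 h2
          subst h2
          have : e * 2 ^ (0 + 1) ≤ 2 := by simp; omega
          omega
        refine h.not_commute ?_
        have hcomm : ρ a * ρ b = ρ b * ρ a := by
          obtain ⟨c, hc, -⟩ := LinearMap.existsUnique_eq_smul_id_of_finrank_eq_one h1 (ρ a)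
          rw [hc]; ext v; simp
        have := hρ ⁅a, b⁆ (by
          rw [commutatorElement_def, map_mul, map_mul, map_mul, hcomm, ← map_mul, ← map_mul, ← map_mul]
          simp)
        exact commutatorElement_eq_one_iff_commute.1 this
      · have h1 := CL.Wr.derivedSeries_add_le (G := P) (K := zpowers a) (k := 1) (by
          rw [derivedSeries_one, h.commutator_eq]
          exact zpowers_le.2 (pow_mem (mem_zpowers a) 2)) (k + 1)
        rw [derivedSeries_succ_eq_bot_of_comm inferInstance, Subgroup.map_bot, add_comm] at h1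
        rw [mem_bot.1 (h1 hg), map_one]
  push Not at hE
  obtain ⟨E, hEn, hE, hEc⟩ := hE
  have hE0 : E ≠ ⊥ := by
    rintro rfl
    rw [card_bot] at hEc
    exact (Nat.one_lt_pow two_ne_zero hp.out.one_lt).ne hEc
  have := hP.isNilpotent
  obtain ⟨⟨z, hzE, hzc⟩, hz1⟩ := (ne_bot_iff_exists_ne_one).1 (inf_center_ne_bot hE0)
  have hz1 : z ≠ 1 := fun h => hz1 (Subtype.ext h)
  have hzp : z ^ p = 1 := hE.2 z hzE
  have hzo : orderOf z = p := orderOf_eq_prime hzp hz1
  have hZn : (zpowers z).Normal := normal_of_le_center' (zpowers_le.2 hzc)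
  have hlt : zpowers z < E := lt_of_le_of_ne (zpowers_le.2 hzE) (fun h => by
    rw [← h, Nat.card_zpowers, hzo] at hEc
    exact (Nat.lt_pow_self' hp.out.one_lt).ne hEc)
  obtain ⟨b, hbE, hbz, -, hbc⟩ := exists_central_mod_of_not_le hP (N := zpowers z) (M := E) hlt.not_ge
  have hzfix : ∀ c ∈ zpowers z, c ≠ 1 → fixV ρ c = ⊥ := fun c hc => hcen c (zpowers_le.2 hzc hc)
  have hzb : Commute z b := (mem_center_iff.1 hzc b).symm
  have hpow : ∀ i : ℕ, (z ^ i * b) ^ p = 1 := fun i => hE.2 _ (mul_mem (pow_mem hzE i) hbE)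
  have hbnc : b ∉ center P := by
    intro hb
    obtain ⟨v, hv⟩ := exists_ne (0 : V)
    have h1 := smul_eq_sum hzfix hz1 hzp hzb v
    rw [Finset.sum_eq_zero (fun i _ => sum_pow_eq_zero (hcen _ (mul_mem (pow_mem hzc i) hb) (fun h => hbz (by
      rw [eq_inv_of_mul_eq_one_right h]; exact inv_mem (pow_mem (mem_zpowers z) i)))) (hpow i) v),
      smul_eq_zero] at h1
    tauto
  obtain ⟨t, ht⟩ : ∃ t : P, ⁅t, b⁆ ≠ 1 := by
    classical
    by_contra h
    push Not at h
    exact hbnc (mem_center_iff.2 fun t => commutatorElement_eq_one_iff_mul_comm.1 (h t))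
  have hcz : ⁅t, b⁆ ∈ zpowers z := by rw [← commutatorElement_inv]; exact inv_mem (hbc t)
  have hcom : derivedSeries P 1 ≤ centralizer {b} := by
    rw [derivedSeries_one, _root_.commutator_def, commutator_le]
    intro x _ y _
    have hx := mem_center_iff.1 (zpowers_le.2 hzc (hbc x))
    have hy := mem_center_iff.1 (zpowers_le.2 hzc (hbc y))
    rw [mem_centralizer_singleton_iff]
    have ex : b * x = ⁅b, x⁆ * x * b := by group
    have ey : b * y = ⁅b, y⁆ * y * b := by group
    have e1 : b * (x * y) = ⁅b, x⁆ * ⁅b, y⁆ * (x * y) * b := by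
      rw [← mul_assoc, ex, mul_assoc _ b, ey, mul_assoc _ x, ← mul_assoc x, ← mul_assoc x, hy x]; group
    have e2 : b * (y * x) = ⁅b, x⁆ * ⁅b, y⁆ * (y * x) * b := by
      rw [← mul_assoc, ey, mul_assoc _ b, ex, mul_assoc _ y, ← mul_assoc y, ← mul_assoc y, hx y, hy ⁅b, x⁆]; group
    have e3 : ⁅x, y⁆ = (x * y) * (y * x)⁻¹ := by group
    have e4 : b * (x * y) * b⁻¹ = ⁅b, x⁆ * ⁅b, y⁆ * (x * y) := by rw [e1]; group
    have e5 : b * (y * x) * b⁻¹ = ⁅b, x⁆ * ⁅b, y⁆ * (y * x) := by rw [e2]; group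
    have e6 : b * ⁅x, y⁆ * b⁻¹ = ⁅x, y⁆ := by
      have hc := mem_center_iff.1 (zpowers_le.2 hzc (mul_mem (hbc x) (hbc y))) (x * y * (y * x)⁻¹)
      calc b * ⁅x, y⁆ * b⁻¹ = (b * (x * y) * b⁻¹) * (b * (y * x) * b⁻¹)⁻¹ := by rw [e3]; group
        _ = (⁅b, x⁆ * ⁅b, y⁆ * (x * y * (y * x)⁻¹)) * (⁅b, x⁆ * ⁅b, y⁆)⁻¹ := by
          rw [e4, e5]; simp only [mul_inv_rev, mul_assoc]
        _ = ⁅x, y⁆ := by rw [← hc, e3]; simp only [mul_inv_rev, mul_assoc, mul_inv_cancel_left, mul_inv_cancel, mul_one]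
    conv_lhs => rw [← e6]
    group
  have h1 := CL.Wr.derivedSeries_add_le hcom k
  rw [add_comm] at h1
  obtain ⟨g₀, hg₀, rfl⟩ := h1 hg
  have key : ∀ i : ℕ, ∀ v ∈ fixV ρ (z ^ i * b), ρ (g₀ : P) v = v := by
    intro i v hv
    have hd := mul_finrank_fixV_le (ρ := ρ) hpF (b := z ^ i * b) (t := t) (zpowers_le.2 hzc hcz)
      (fun d hd => hzfix d (zpowers_le.2 hcz hd)) ht (hE.2 _ (hlt.le hcz)) (by
        have h1 := mem_center_iff.1 (pow_mem hzc i)
        rw [← mul_assoc t, h1 t, ← mul_assoc ⁅t, b⁆, h1 ⁅t, b⁆, commutatorElement_def]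
        simp only [mul_assoc, inv_mul_cancel, mul_one])
    have h2 : 2 * finrank F (fixV ρ (z ^ i * b)) ≤ p * finrank F (fixV ρ (z ^ i * b)) :=
      Nat.mul_le_mul_right _ hp.out.two_le
    have hinv : ∀ x : centralizer ({b} : Set P), fixV ρ (z ^ i * b) ≤
        (fixV ρ (z ^ i * b)).comap ((ρ.comp (centralizer ({b} : Set P)).subtype) x) := fun x =>
      fixV_inv (Commute.mul_right (mem_center_iff.1 (pow_mem hzc i) x) (mem_centralizer_singleton_iff.1 x.2))
    have e1 := ih _ (by omega) (fixV ρ (z ^ i * b)) rfl _ (hP.to_subgroup _)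
      (Representation.subrepresentation (ρ.comp (centralizer ({b} : Set P)).subtype) _ hinv) k (by
        rw [hn] at hd
        rw [pow_succ, ← mul_assoc, mul_comm _ p] at hk
        exact Nat.lt_of_mul_lt_mul_left (hd.trans_lt hk)) g₀ hg₀
    exact congrArg Subtype.val (LinearMap.congr_fun e1 ⟨v, hv⟩)
  ext v
  have h2 := smul_eq_sum hzfix hz1 hzp hzb v
  have h3 : ρ (g₀ : P) ((p : F) • v) = (p : F) • v := by
    rw [h2, map_sum]
    exact Finset.sum_congr rfl fun i _ => key i _ (sum_pow_mem_fixV ρ (hpow i) v)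
  rw [map_smul] at h3
  exact smul_right_injective V hpF h3
where
  Nat.lt_pow_self' {p : ℕ} (h : 1 < p) : p < p ^ 2 := by nlinarith

/-- the ascending chain of iterated fixed spaces -/
def upC (ρ : Representation F P V) : ℕ → Submodule F V
  | 0 => ⊥
  | i + 1 => ⨅ g, (upC ρ i).comap (ρ g - 1)

theorem mem_upC_succ {ρ : Representation F P V} {i : ℕ} {v : V} :
    v ∈ upC ρ (i + 1) ↔ ∀ g, ρ g v - v ∈ upC ρ i := by
  simp [upC]

theorem upC_mono (ρ : Representation F P V) : Monotone (upC ρ) := by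
  refine monotone_nat_of_le_succ fun i => ?_
  induction i with
  | zero => exact bot_le
  | succ i ih => exact fun v hv => mem_upC_succ.2 fun g => ih (mem_upC_succ.1 hv g)

theorem upC_inv (ρ : Representation F P V) (i : ℕ) (g : P) : upC ρ i ≤ (upC ρ i).comap (ρ g) := by
  rcases i with _ | i
  · exact bot_le
  · intro v hv
    have := add_mem (upC_mono ρ (Nat.le_succ i) (mem_upC_succ.1 hv g)) hv
    simpa using this

theorem upC_finrank [Finite P] [Fact p.Prime] [CharP F p] [FiniteDimensional F V] (hP : IsPGroup p P)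
    (ρ : Representation F P V) (i : ℕ) : upC ρ i = ⊤ ∨ i ≤ finrank F (upC ρ i) := by
  induction i with
  | zero => exact Or.inr (Nat.zero_le _)
  | succ i ih =>
    by_cases h : upC ρ i = ⊤
    · exact Or.inl (eq_top_iff.2 (h ▸ upC_mono ρ (Nat.le_succ i)))
    right
    have hnt : Nontrivial (V ⧸ upC ρ i) := Submodule.Quotient.nontrivial_iff.2 h
    obtain ⟨v, -, hv0, hv⟩ := CL.Perm.exists_ne_zero_fixed_of_isPGroup hP (ρ.quotient _ (upC_inv ρ i)) ⊤
      (fun _ _ _ => trivial) top_ne_bot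
    obtain ⟨v, rfl⟩ := Submodule.Quotient.mk_surjective _ v
    have hlt : upC ρ i < upC ρ (i + 1) := lt_of_le_of_ne (upC_mono ρ (Nat.le_succ i)) (fun he => hv0 (by
      rw [Submodule.Quotient.mk_eq_zero, he, mem_upC_succ]
      intro g
      rw [← Submodule.Quotient.eq]
      exact hv g))
    have := Submodule.finrank_lt_finrank_of_lt hlt
    have := ih.resolve_left h
    omega

theorem der_upC (ρ : Representation F P V) (k : ℕ) :
    ∀ g ∈ derivedSeries P k, ∀ i, ∀ v ∈ upC ρ (i + 2 ^ k), ρ g v - v ∈ upC ρ i := by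
  let S : ℕ → Subgroup P := fun m =>
    { carrier := {g | ∀ i, ∀ v ∈ upC ρ (i + m), ρ g v - v ∈ upC ρ i}
      one_mem' := by intro i v _; simp
      mul_mem' := by
        intro a b ha hb i v hv
        have := add_mem (ha i _ (upC_inv ρ _ b hv)) (hb i v hv)
        rw [rep_mul]; simpa using this
      inv_mem' := by
        intro a ha i v hv
        have := neg_mem (ha i _ (upC_inv ρ _ a⁻¹ hv))
        rw [← rep_mul] at this; simpa using this }
  change derivedSeries P k ≤ S (2 ^ k)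
  induction k with
  | zero => intro g _ i v hv; exact mem_upC_succ.1 hv g
  | succ k ih =>
    rw [derivedSeries_succ, commutator_le]
    intro x hx y hy i v hv
    have hw : ρ x⁻¹ (ρ y⁻¹ v) ∈ upC ρ (i + 2 ^ k + 2 ^ k) := by
      rw [add_assoc, ← mul_two, ← pow_succ]
      exact upC_inv ρ _ _ (upC_inv ρ _ _ hv)
    have h1 := ih hx i _ (ih hy _ _ hw)
    have h2 := ih hy i _ (ih hx _ _ hw)
    have h3 := sub_mem h1 h2
    have e : ρ y (ρ x (ρ x⁻¹ (ρ y⁻¹ v))) = v := by
      rw [← rep_mul, ← rep_mul, ← rep_mul, show y * x * x⁻¹ * y⁻¹ = 1 by group, map_one]; rfl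
    rw [commutatorElement_def, rep_mul, rep_mul, rep_mul]
    rw [map_sub, map_sub, e] at h3
    convert h3 using 1
    abel

/-- the bound in characteristic `p` -/
theorem der_trivial_char [Finite P] [Fact p.Prime] [CharP F p] [FiniteDimensional F V] (hP : IsPGroup p P)
    (ρ : Representation F P V) {k : ℕ} (hk : finrank F V ≤ 2 ^ k) : ∀ g ∈ derivedSeries P k, ρ g = 1 := by
  intro g hg
  have htop : upC ρ (finrank F V) = ⊤ := by
    rcases upC_finrank hP ρ (finrank F V) with h | h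
    · exact h
    · exact Submodule.eq_top_of_finrank_eq (le_antisymm (Submodule.finrank_le _) h)
  ext v
  have := der_upC ρ k g hg 0 v (upC_mono ρ (by simpa using hk) (htop ▸ Submodule.mem_top))
  exact sub_eq_zero.1 this

/-- the natural representation of a matrix group -/
noncomputable def glRep {n : ℕ} (φ : P →* GL (Fin n) F) : Representation F P (Fin n → F) :=
  ((Matrix.toLinAlgEquiv' : Matrix (Fin n) (Fin n) F ≃ₐ[F] _).toMonoidHom.comp (Units.coeHom _)).comp φ

theorem glRep_eq_one {n : ℕ} {φ : P →* GL (Fin n) F} {g : P} (h : glRep φ g = 1) : φ g = 1 := by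
  apply Units.ext
  exact (Matrix.toLinAlgEquiv' : Matrix (Fin n) (Fin n) F ≃ₐ[F] _).injective (h.trans (map_one _).symm)

theorem not_dvd_card_gl [Fintype F] [hp : Fact p.Prime] (hq : ¬ p ∣ Fintype.card F) {m : ℕ}
    (hm : m < orderOf (Fintype.card F : ZMod p)) : ¬ p ∣ Nat.card (GL (Fin m) F) := by
  rw [Matrix.card_GL_field, (Nat.Prime.prime hp.out).dvd_finsetProd_iff]
  rintro ⟨i, -, hi⟩
  have e : Fintype.card F ^ m - Fintype.card F ^ (i : ℕ) =
      Fintype.card F ^ (i : ℕ) * (Fintype.card F ^ (m - i) - 1) := by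
    rw [Nat.mul_sub, ← pow_add, mul_one, Nat.add_sub_cancel' i.2.le]
  rw [e] at hi
  rcases (Nat.Prime.dvd_mul hp.out).1 hi with h | h
  · exact hq (hp.out.dvd_of_dvd_pow h)
  · have h1 : (Fintype.card F : ZMod p) ^ (m - i) = 1 := by
      have := (ZMod.natCast_eq_zero_iff _ _).2 h
      rw [Nat.cast_sub (Nat.one_le_pow _ _ Fintype.card_pos), sub_eq_zero] at this
      simpa using this
    have := Nat.le_of_dvd (by have := i.2; omega) (orderOf_dvd_of_pow_eq_one h1)
    omega

theorem end_eq_one_of_finrank_lt [Fintype F] [hp : Fact p.Prime] (hq : ¬ p ∣ Fintype.card F)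
    (W : Type v) [AddCommGroup W] [Module F W] [FiniteDimensional F W]
    (hW : finrank F W < orderOf (Fintype.card F : ZMod p)) (T : End F W) (j : ℕ) (hT : T ^ p ^ j = 1) :
    T = 1 := by
  let e := LinearMap.toMatrixAlgEquiv (Module.finBasis F W)
  have h1 : e T ^ p ^ j = 1 := by rw [← map_pow, hT, map_one]
  let U : GL (Fin (finrank F W)) F := Units.ofPowEqOne (e T) (p ^ j) h1 (pow_ne_zero _ hp.out.ne_zero)
  have hU : U ^ p ^ j = 1 := Units.ext (by rw [Units.val_pow_eq_pow_val]; exact h1)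
  have h2 : orderOf U = 1 := Nat.Coprime.eq_one_of_dvd
    (Nat.Coprime.coprime_dvd_left (orderOf_dvd_natCard U) (Nat.Coprime.pow_right j
      ((Nat.Prime.coprime_iff_not_dvd hp.out).2 (not_dvd_card_gl hq hW)).symm)) (orderOf_dvd_of_pow_eq_one hU)
  have h3 : e T = 1 := congrArg Units.val (orderOf_eq_one_iff.1 h2)
  exact e.injective (h3.trans (map_one _).symm)

theorem natCast_ne_zero_of_not_dvd [Fintype F] [hp : Fact p.Prime] (hq : ¬ p ∣ Fintype.card F) : (p : F) ≠ 0 := by
  intro h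
  have : CharP F p := (CharP.charP_iff_prime_eq_zero hp.out).2 h
  obtain ⟨k, -, hk⟩ := FiniteField.card F p
  exact hq (hk ▸ dvd_pow_self _ k.2.ne')

theorem der_gl_finite [Fintype F] [hp : Fact p.Prime] (hq : ¬ p ∣ Fintype.card F) {n k : ℕ}
    (hk : n < orderOf (Fintype.card F : ZMod p) * p ^ k) (Q : Subgroup (GL (Fin n) F)) (hQ : IsPGroup p Q) :
    derivedSeries Q k = ⊥ := by
  rw [eq_bot_iff]
  intro g hg
  have := der_trivial (natCast_ne_zero_of_not_dvd hq) (e := orderOf (Fintype.card F : ZMod p)) (by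
    rintro rfl
    have : (Fintype.card F : ZMod 2) = 1 := by
      rw [← ZMod.natCast_mod, show Fintype.card F % 2 = 1 by omega]; rfl
    rw [this, orderOf_one]) (end_eq_one_of_finrank_lt hq) n (Fin n → F) (by simp) Q hQ (glRep Q.subtype) k hk g hg
  exact Subtype.ext (glRep_eq_one this)

end CL.Sw
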